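import Cfsg.Agent.KnownSimple.Steinberg.Gen.MultG2
import Cfsg.Agent.KnownSimple.Steinberg.Gen.Three
import Cfsg.Prelude.Def_KGroupFacts

/-!
Stem extensions of the Chevalley group of type G2 over three elements have kernels of order at most
three (helper93).
-/

set_option autoImplicit false

namespace Cfsg.Agent.Mult93.G23

open Cfsg Cfsg.Lie Cfsg.Agent.ChevCore Cfsg.Agent.ChevGroup
open Cfsg.Agent.KnownSimple.Steinberg Cfsg.Agent.KnownSimple.Steinberg.Gen
open scoped commutatorElement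

universe u

/-- Weyl words carrying the pair `(7, 11)` to every perpendicular pair of a short and a long root -/
def words : List (List ℕ) := [[], [0], [1], [1, 0], [0, 1], [0, 1, 0], [1, 0, 1], [1, 0, 1, 0],
  [0, 1, 0, 1], [0, 1, 0, 1, 0], [1, 0, 1, 0, 1], [1, 0, 1, 0, 1, 0]]

/-- `(r, s)` is an image of `(7, 11)` -/
noncomputable def orbK (r s : ℕ) : Bool :=
  kanyUpTo 12 fun k => forceN k fun k =>
    (Nat.beq (actW chevG2 (words.getD k []) 7) r && Nat.beq (actW chevG2 (words.getD k []) 11) s) ||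
      (Nat.beq (actW chevG2 (words.getD k []) 7) s && Nat.beq (actW chevG2 (words.getD k []) 11) r)

/-- the certificate -/
noncomputable def boundK : Bool :=
  (kallUpTo 12 fun k => kall (words.getD k []) fun i => Nat.blt i 2) &&
  kallUpTo 12 fun r => forceN r fun r =>
    scalM chevG2 2 r && kallUpTo 12 fun s => forceN s fun s =>
      Nat.beq s r || Nat.beq s (chevG2.neg r) ||
        (pairK chevG2 (std chevG2) r s &&
          (sepM chevG2 2 r s || ((commW (std chevG2) r s).isEmpty && orbK r s)))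

theorem boundK_eq : boundK = true := by decide +kernel

theorem bracket_mem {F : Type*} [Field F] [Fintype F] (hF : Fintype.card F = 3) {Γ : Type*} [Group Γ]
    (E : CExt chevG2 F Γ) {r s : ℕ} (hr : r < 12) (hs : s < 12)
    (hrs : s = r ∨ (s ≠ chevG2.neg r ∧ chevG2.commTerms r s = [])) :
    Commute (E.ℓ r 1) (E.ℓ s 1) ∨
      ⁅E.ℓ r 1, E.ℓ s 1⁆ ∈ Subgroup.zpowers ⁅E.ℓ 7 1, E.ℓ 11 1⁆ := by
  have hC : CommGood chevG2 := packG2.comm
  have hD := hC.toGood
  have hG := commute_xg (F := F) hC (r := r) (s := s) hr hs hrs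
  have h := boundK_eq
  simp only [boundK, kallUpTo_iff, forceN_eq, Bool.and_eq_true, Bool.or_eq_true, kall_iff,
    Nat.blt_eq, Nat.beq_eq, commW_std, List.isEmpty_iff] at h
  obtain ⟨hwords, h⟩ := h
  by_cases h1 : s = r
  · exact Or.inl (h1 ▸ Commute.refl _)
  obtain ⟨h2, -⟩ := hrs.resolve_left h1
  obtain ⟨-, hsep | ⟨-, horb⟩⟩ := ((h r hr).2 s hs).resolve_left fun e => e.elim h1 h2
  · exact Or.inl (commute_of_sep hr hs hG hD (sep_of_sepM (m := 2) hF hD E hsep) 1 1)
  simp only [orbK, kanyUpTo_iff, forceN_eq, Bool.or_eq_true, Bool.and_eq_true, Nat.beq_eq] at horb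
  obtain ⟨k, hk, horb⟩ := horb
  set w := words.getD k []
  have hw : ∀ i ∈ w, i < chevG2.rank := fun i hi => hwords k hk i hi
  set a := actW chevG2 w 7
  set b := actW chevG2 w 11
  set c := ⁅E.ℓ 7 1, E.ℓ 11 1⁆
  have hcenc : c ∈ Subgroup.center Γ :=
    bracket_central (E := E) (by decide) (by decide)
      (commute_xg hC (by decide) (by decide) (Or.inr ⟨by decide +kernel, by decide +kernel⟩)) 1 1
  have h7 : 7 < chevG2.nroots := by decide
  have h11 : 11 < chevG2.nroots := by decide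
  have ha : a < 12 := by rcases horb with ⟨e, -⟩ | ⟨e, -⟩ <;> rw [e] <;> assumption
  have hb : b < 12 := by rcases horb with ⟨-, e⟩ | ⟨-, e⟩ <;> rw [e] <;> assumption
  have hab : ∀ u v, Commute (xg chevG2 F a u) (xg chevG2 F b v) := by
    rcases horb with ⟨e, e'⟩ | ⟨e, e'⟩ <;> rw [e, e']
    · exact hG
    · exact fun u v => (hG v u).symm
  have hab1 : ⁅E.ℓ a 1, E.ℓ b 1⁆ ∈ Subgroup.zpowers c := by
    have key : ⁅E.N w * E.ℓ 7 1 * (E.N w)⁻¹, E.N w * E.ℓ 11 1 * (E.N w)⁻¹⁆ = c := by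
      rw [← MulAut.conj_apply, ← MulAut.conj_apply, ← map_commutatorElement, MulAut.conj_apply,
        Subgroup.mem_center_iff.1 hcenc, mul_inv_cancel_right]
    rw [E.comm_congr (v' := E.ℓ a (etaWord chevG2 w 7 : F)) (w' := E.ℓ b (etaWord chevG2 w 11 : F))
      (by rw [E.π_N_conj hD hw h7 (E.π_ℓ 7 h7 1), E.π_ℓ a ha, mul_one])
      (by rw [E.π_N_conj hD hw h11 (E.π_ℓ 11 h11 1), E.π_ℓ b hb, mul_one])] at key
    obtain ⟨i, hi⟩ := exists_zpow_π E hD (three_cases hF).2 ha (etaWord chevG2 w 7 : F)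
    obtain ⟨j, hj⟩ := exists_zpow_π E hD (three_cases hF).2 hb (etaWord chevG2 w 11 : F)
    have hz7 : (etaWord chevG2 w 7 : ℤ) = 1 ∨ etaWord chevG2 w 7 = -1 :=
      Int.eq_one_or_neg_one_of_mul_eq_one (Good.etaWord_sq w 7)
    have hz11 : (etaWord chevG2 w 11 : ℤ) = 1 ∨ etaWord chevG2 w 11 = -1 :=
      Int.eq_one_or_neg_one_of_mul_eq_one (Good.etaWord_sq w 11)
    rw [bracket_left_unit hC E ha hb hab hz7, bracket_unit E hD ha hb hab hz11, ← zpow_mul] at key
    have hsq : etaWord chevG2 w 11 * etaWord chevG2 w 7 * (etaWord chevG2 w 11 * etaWord chevG2 w 7) = 1 := by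
      rcases hz7 with e | e <;> rcases hz11 with e' | e' <;> rw [e, e'] <;> norm_num
    refine ⟨etaWord chevG2 w 11 * etaWord chevG2 w 7, ?_⟩
    show c ^ _ = _
    rw [← key, ← zpow_mul, hsq, zpow_one]
  rcases horb with ⟨e, e'⟩ | ⟨e, e'⟩ <;> rw [e, e'] at hab1
  · exact Or.inr hab1
  · refine Or.inr ?_
    rw [← commutatorElement_inv]
    exact inv_mem hab1
where
  bracket_left_unit {F : Type _} [Field F] {Γ : Type _} [Group Γ] (hC : CommGood chevG2)
      (E : CExt chevG2 F Γ) {r s : ℕ} (hr : r < chevG2.nroots) (hs : s < chevG2.nroots)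
      (hG : ∀ u v, Commute (xg chevG2 F r u) (xg chevG2 F s v)) {z : ℤ} (hz : z = 1 ∨ z = -1)
      {v : F} : ⁅E.ℓ r (z : F), E.ℓ s v⁆ = ⁅E.ℓ r 1, E.ℓ s v⁆ ^ z := by
    have hD := hC.toGood
    rcases hz with rfl | rfl
    · rw [Int.cast_one, zpow_one]
    · rw [Int.cast_neg, Int.cast_one, zpow_neg_one]
      refine eq_inv_of_mul_eq_one_left ?_
      rw [← bracket_add_left (E := E) hr hs hG hD, neg_add_cancel,
        commutatorElement_eq_one_iff_commute]
      exact E.π_eq_zero_commute hr hD (E.π_ℓ r hr 0) _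

theorem exists_surjection {F : Type u} [Field F] [Fintype F] (hF : Fintype.card F = 3)
    {Γ : Type u} [Group Γ] [Finite Γ] (σ : Γ →* ↥(chevG2.group F)) (hσ : IsStemExtension σ) :
    ∃ π : Multiplicative (ZMod 3) →* σ.ker, Function.Surjective π := by
  classical
  have hC : CommGood chevG2 := packG2.comm
  have hS := packG2.dok
  have hD := hC.toGood
  obtain ⟨hsurj, hcen, hcom⟩ := hσ
  have hker : ((chevG2.group F).subtype.comp σ).ker = σ.ker :=
    MonoidHom.ker_comp_of_injective σ _ (Subgroup.subtype_injective _)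
  let E : CExt chevG2 F Γ :=
    { π := (chevG2.group F).subtype.comp σ
      central := hker.le.trans hcen
      ℓ := fun r t => if hr : r < chevG2.nroots then
        Function.surjInv hsurj ⟨xg chevG2 F r t, xg_mem_group hD hr t⟩ else 1
      π_ℓ := fun r hr t => by
        rw [MonoidHom.comp_apply, dif_pos hr, Function.surjInv_eq hsurj]
        rfl }
  set c := ⁅E.ℓ 7 1, E.ℓ 11 1⁆
  have hG : ∀ u v, Commute (xg chevG2 F 7 u) (xg chevG2 F 11 v) :=
    commute_xg hC (by decide) (by decide) (Or.inr ⟨by decide +kernel, by decide +kernel⟩)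
  have hcπ : c ∈ σ.ker := by
    rw [← hker, MonoidHom.mem_ker, map_commutatorElement, commutatorElement_eq_one_iff_commute]
    show Commute (E.π _) (E.π _)
    rw [E.π_ℓ 7 (by decide), E.π_ℓ 11 (by decide)]
    exact hG 1 1
  have hc3 : c ^ 3 = 1 := bracket_cube E hD (three_cases hF).1 (by decide) (by decide) hG
  set K := Subgroup.zpowers c
  have hKker : K ≤ σ.ker := Subgroup.zpowers_le.2 hcπ
  haveI : K.Normal := ⟨fun n hn g => by
    rwa [Subgroup.mem_center_iff.1 (hcen (hKker hn)) g, mul_inv_cancel_right]⟩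
  let σ' : Γ ⧸ K →* ↥(chevG2.group F) := QuotientGroup.lift K σ hKker
  have hcen' : σ'.ker ≤ Subgroup.center (Γ ⧸ K) := by
    intro x hx
    obtain ⟨x, rfl⟩ := QuotientGroup.mk'_surjective K x
    refine Subgroup.mem_center_iff.2 fun y => ?_
    obtain ⟨y, rfl⟩ := QuotientGroup.mk'_surjective K y
    rw [← map_mul, ← map_mul, Subgroup.mem_center_iff.1 (hcen hx) y]
  have hker' : ((chevG2.group F).subtype.comp σ').ker = σ'.ker :=
    MonoidHom.ker_comp_of_injective σ' _ (Subgroup.subtype_injective _)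
  let E' : CExt chevG2 F (Γ ⧸ K) :=
    { π := (chevG2.group F).subtype.comp σ'
      central := hker'.le.trans hcen'
      ℓ := fun r t => QuotientGroup.mk' K (E.ℓ r t)
      π_ℓ := fun r hr t => E.π_ℓ r hr t }
  have h := boundK_eq
  simp only [boundK, kallUpTo_iff, forceN_eq, Bool.and_eq_true, Bool.or_eq_true, kall_iff,
    Nat.blt_eq, Nat.beq_eq, commW_std, List.isEmpty_iff] at h
  obtain ⟨-, h⟩ := h
  have hscal : ∀ r < chevG2.nroots, Scal E' r := fun r hr => scal_of_scalM (m := 2) hF hD E' (h r hr).1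
  have hcomm : ∀ r < chevG2.nroots, ∀ s < chevG2.nroots,
      (s = r ∨ (s ≠ chevG2.neg r ∧ chevG2.commTerms r s = [])) →
        ∀ u v, Commute (E'.ℓ r u) (E'.ℓ s v) := by
    intro r hr s hs hrs u v
    refine commute_of_one E' hD (three_cases hF).2 hr hs ?_ u v
    rcases bracket_mem hF E hr hs hrs with hcm | hcm
    · exact hcm.map _
    · rw [← commutatorElement_eq_one_iff_commute]
      show ⁅QuotientGroup.mk' K (E.ℓ r 1), QuotientGroup.mk' K (E.ℓ s 1)⁆ = 1
      rw [← map_commutatorElement]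
      exact (QuotientGroup.eq_one_iff _).2 hcm
  have hrel := canPre_allRel E' hS hC hscal hcomm
    (fun r hr s hs h1 h2 he => sep_of_sepM (m := 2) hF hD E'
      (((((h r hr).2 s hs).resolve_left fun e => e.elim h1 h2).2).resolve_right fun h' => he h'.1))
    (fun r hr s hs h1 h2 => (((h r hr).2 s hs).resolve_left fun e => e.elim h1 h2).1)
  let R := (canPre E' hS hscal hcomm).toBase hS hrel conjCertG2
  set H := Subgroup.closure {g | ∃ r t, r < chevG2.nroots ∧ g = R.y r t}
  have hHmap : H.map σ' = ⊤ := by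
    refine Subgroup.map_injective (Subgroup.subtype_injective (chevG2.group F)) ?_
    rw [Subgroup.map_map, MonoidHom.map_closure, ← MonoidHom.range_eq_map, Subgroup.range_subtype]
    conv_rhs => rw [group_eq_closure_xg hD]
    congr 1
    ext g
    constructor
    · rintro ⟨_, ⟨r, t, hr, rfl⟩, rfl⟩
      exact ⟨r, t, hr, R.π_y r hr t⟩
    · rintro ⟨r, t, hr, rfl⟩
      exact ⟨_, ⟨r, t, hr, rfl⟩, R.π_y r hr t⟩
  have htop : H = ⊤ := by
    have hdec : ∀ g : Γ ⧸ K, ∃ a ∈ H, ∃ z ∈ σ'.ker, g = a * z := by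
      intro g
      obtain ⟨a, ha, e⟩ : σ' g ∈ H.map σ' := hHmap ▸ Subgroup.mem_top _
      exact ⟨a, ha, a⁻¹ * g, by simp [MonoidHom.mem_ker, e], by group⟩
    have hHc : commutator (Γ ⧸ K) ≤ H := by
      rw [commutator_def, Subgroup.commutator_le]
      intro g _ g' _
      obtain ⟨a, ha, z, hz, rfl⟩ := hdec g
      obtain ⟨b, hb, w, hw, rfl⟩ := hdec g'
      rw [E'.comm_congr (v' := a) (w' := b) (by rw [map_mul]; simp [E', MonoidHom.mem_ker.1 hz])
        (by rw [map_mul]; simp [E', MonoidHom.mem_ker.1 hw])]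
      exact mul_mem (mul_mem (mul_mem ha hb) (inv_mem ha)) (inv_mem hb)
    rw [eq_top_iff]
    intro g _
    obtain ⟨a, ha, z, hz, rfl⟩ := hdec g
    refine mul_mem ha (hHc ?_)
    obtain ⟨z, rfl⟩ := QuotientGroup.mk'_surjective K z
    have hmem : QuotientGroup.mk' K z ∈ (commutator Γ).map (QuotientGroup.mk' K) :=
      Subgroup.mem_map_of_mem _ (hcom hz)
    rwa [commutator_def, Subgroup.map_commutator,
      Subgroup.map_top_of_surjective _ (QuotientGroup.mk'_surjective K), ← commutator_def] at hmem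
  obtain ⟨hfin, hle⟩ := R.card_ker_le hS TypeG2.model htop
    (R.hh_mul hS TypeG2.model htop (nbrOK_of_mem (by simp))) elimG2 one_pos
  rw [Nat.gcd_one_left] at hle
  haveI : Finite ↥R.π.ker := hfin
  have hbot : R.π.ker = ⊥ := Subgroup.eq_bot_of_card_le _ hle
  have hsub : σ.ker ≤ K := fun x hx => by
    have h1 : QuotientGroup.mk' K x ∈ R.π.ker := by
      show (chevG2.group F).subtype (σ x) = 1
      rw [MonoidHom.mem_ker.1 hx, map_one]
    rw [hbot, Subgroup.mem_bot] at h1
    exact (QuotientGroup.eq_one_iff x).1 h1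
  let g : σ.ker := ⟨c, hcπ⟩
  have hg3 : g ^ 3 = 1 := Subtype.ext hc3
  refine ⟨MonoidHom.mk' (fun v => g ^ v.toAdd.val) fun v w => ?_, fun x => ?_⟩
  · show g ^ (v.toAdd + w.toAdd).val = _
    rw [ZMod.val_add, ← pow_eq_pow_mod _ hg3, pow_add]
  · obtain ⟨k, hk⟩ := hsub x.2
    refine ⟨Multiplicative.ofAdd (k : ZMod 3), Subtype.ext ?_⟩
    show c ^ ((k : ZMod 3)).val = x
    rw [← hk]
    show c ^ ((k : ZMod 3)).val = c ^ k
    rw [← zpow_natCast, ZMod.val_intCast, ← zpow_eq_zpow_emod' k (by exact_mod_cast hc3)]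

end Cfsg.Agent.Mult93.G23
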