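import Cfsg.Agent.Mult93.G23.Check

/-!
Evaluation of the checks for the roots 0 to 2 (helper93).
-/

set_option autoImplicit false

namespace Cfsg.Agent.Mult93.G23

theorem permK0 : permK 0 = true := by decide +kernel

theorem relK0 : relK 0 = true := by decide +kernel

theorem permK1 : permK 1 = true := by decide +kernel

theorem relK1 : relK 1 = true := by decide +kernel

theorem permK2 : permK 2 = true := by decide +kernel

theorem relK2 : relK 2 = true := by decide +kernel

theorem nontrivK_eq : nontrivK = true := by decide +kernel

end Cfsg.Agent.Mult93.G23
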