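import Cfsg.Agent.Mult93.G23.Check

/-!
Evaluation of the checks for the roots 3 to 5 (helper93).
-/

set_option autoImplicit false

namespace Cfsg.Agent.Mult93.G23

theorem permK3 : permK 3 = true := by decide +kernel

theorem relK3 : relK 3 = true := by decide +kernel

theorem permK4 : permK 4 = true := by decide +kernel

theorem relK4 : relK 4 = true := by decide +kernel

theorem permK5 : permK 5 = true := by decide +kernel

theorem relK5 : relK 5 = true := by decide +kernel

end Cfsg.Agent.Mult93.G23
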