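import Cfsg.Agent.Mult93.G23.Check

/-!
Evaluation of the checks for the roots 6 to 8 (helper93).
-/

set_option autoImplicit false

namespace Cfsg.Agent.Mult93.G23

theorem permK6 : permK 6 = true := by decide +kernel

theorem relK6 : relK 6 = true := by decide +kernel

theorem permK7 : permK 7 = true := by decide +kernel

theorem relK7 : relK 7 = true := by decide +kernel

theorem permK8 : permK 8 = true := by decide +kernel

theorem relK8 : relK 8 = true := by decide +kernel

end Cfsg.Agent.Mult93.G23
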