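import Cfsg.Agent.Mult93.G23.Check

/-!
Evaluation of the checks for the roots 9 to 11 (helper93).
-/

set_option autoImplicit false

namespace Cfsg.Agent.Mult93.G23

theorem permK9 : permK 9 = true := by decide +kernel

theorem relK9 : relK 9 = true := by decide +kernel

theorem permK10 : permK 10 = true := by decide +kernel

theorem relK10 : relK 10 = true := by decide +kernel

theorem permK11 : permK 11 = true := by decide +kernel

theorem relK11 : relK 11 = true := by decide +kernel

end Cfsg.Agent.Mult93.G23
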