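import Cfsg.Agent.Mult93.G23.Data
import Cfsg.Agent.Lib.ChevCore.CommDefs
import Cfsg.Agent.KnownSimple.Steinberg.Gen.PackG2

/-!
The decidable checks on the permutations of `1053` points (helper93).
-/

set_option autoImplicit false

namespace Cfsg.Agent.Mult93.G23

open Cfsg.Lie Cfsg.Agent.ChevCore

/-- image under the permutation of `(r, e)`; the exponent is read modulo three -/
noncomputable def img (r e i : Nat) : Nat :=
  bif Nat.beq (e % 3) 0 then i
  else (tabs.getD (2 * r + e % 3 - 1) 0 >>> (16 * i)) &&& 65535

/-- image under a word, the rightmost letter first -/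
noncomputable def ev : List (Nat × Nat) → Nat → Nat
  | [], i => i
  | (p :: w), i => forceN (ev w i) fun j => img p.1 p.2 j

/-- the central permutation -/
def cyc (i : Nat) : Nat := bif Nat.beq (i % 3) 2 then i - 2 else i + 1

/-- every table is a permutation commuting with `cyc`, inverse to its partner -/
noncomputable def permK (r : Nat) : Bool :=
  kallUpTo 1053 fun i => kallUpTo 2 fun e =>
    forceN (img r (e + 1) i) fun j => Nat.blt j 1053 && Nat.beq (img r (2 - e) j) i &&
      Nat.beq (img r (e + 1) (cyc i)) (cyc j)

/-- the word is a power of the central permutation -/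
noncomputable def constK (w : List (Nat × Nat)) : Bool :=
  forceN (ev w 0) fun k => Nat.blt k 3 && kallUpTo 351 fun i => Nat.beq (ev w (3 * i)) (3 * i + k)

/-- the exponent of a term of the commutator formula -/
def coef (c : ℕ × ℤ × ℕ × ℕ) (t u : Nat) : Nat :=
  ((c.2.1 * (-(t : ℤ)) ^ c.2.2.1 * (u : ℤ) ^ c.2.2.2) % 3).toNat

/-- the word of a relator of the commutator formula -/
def relW (r s t u : Nat) : List (Nat × Nat) :=
  [(s, 3 - u), (r, 3 - t), (s, u), (r, t)] ++
    ((chevG2.commTerms r s).reverse.map fun c => (c.1, 3 - coef c t u))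

/-- all relators with first root `r` are central -/
noncomputable def relK (r : Nat) : Bool :=
  (kallUpTo 3 fun t => kallUpTo 3 fun u => constK [(r, t), (r, u), (r, 3 - (t + u) % 3)]) &&
    kallUpTo 12 fun s => Nat.beq s r || Nat.beq s (11 - r) ||
      kallUpTo 3 fun t => kallUpTo 3 fun u => constK (relW r s t u)

/-- the commutator of two commuting root elements is the central permutation, and a root element moves
a block -/
noncomputable def nontrivK : Bool :=
  Nat.beq (ev [(7, 1), (11, 1), (7, 2), (11, 2)] 0) 1 &&
    kanyUpTo 351 fun i => !(Nat.beq (img 7 1 (3 * i) / 3) i)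

end Cfsg.Agent.Mult93.G23
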