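import Cfsg.Agent.Mult93.G23.Group
import Cfsg.Agent.KnownSimple.Steinberg.Gen.MultG2
import Cfsg.Agent.ChevGroup.Mat.SimpleG2
import Cfsg.Prelude.Def_KGroupFacts

/-!
The triple cover of the Chevalley group of type G2 over three elements (helper93).
-/

set_option autoImplicit false

namespace Cfsg.Agent.Mult93.G23

open Cfsg Cfsg.Lie Cfsg.Agent.ChevCore Cfsg.Agent.ChevGroup
open Cfsg.Agent.KnownSimple.Steinberg Cfsg.Agent.KnownSimple.Steinberg.Gen
open scoped commutatorElement

universe u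

variable {F : Type u} [Field F] [Fintype F]

/-- The projection of the cover by (R1), (R2) is an isomorphism. -/
theorem scData_bijective : Function.Bijective
    (toGroup (scData (F := F) packG2.comm) packG2.comm.toGood) := by
  classical
  refine ⟨?_, toGroup_surjective _ _⟩
  rw [← MonoidHom.ker_eq_bot_iff, ker_toGroup]
  obtain ⟨hfin, hle⟩ := (packG2.base (scData (F := F) packG2.comm)).card_ker_le packG2.dok
    TypeG2.model (closure_pre _)
    ((packG2.base (scData packG2.comm)).hh_mul packG2.dok TypeG2.model (closure_pre _)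
      (nbrOK_of_mem (by simp))) elimG2 one_pos
  rw [Nat.gcd_one_left] at hle
  haveI : Finite ↥(scData (F := F) packG2.comm).π.ker := hfin
  exact Subgroup.eq_bot_of_card_le _ hle

variable (hF : Fintype.card F = 3)
include hF

theorem exists_val : ∃ ν : F → ℕ, (∀ x, ν x < 3) ∧ (∀ x y, ν (x + y) = (ν x + ν y) % 3) ∧
    ν 1 = 1 ∧
    ∀ (c : ℕ × ℤ × ℕ × ℕ) (t u : F),
      ν ((c.2.1 : F) * (-t) ^ c.2.2.1 * u ^ c.2.2.2) = coef c (ν t) (ν u) := by
  let φ : F ≃+* ZMod 3 := (ZMod.ringEquivOfPrime F Nat.prime_three hF).symm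
  refine ⟨fun x => (φ x).val, fun x => ZMod.val_lt _, fun x y => by
    show (φ (x + y)).val = _
    rw [map_add, ZMod.val_add],
    by show (φ 1).val = 1; rw [map_one]; rfl, fun c t u => ?_⟩
  show (φ _).val = _
  rw [map_mul, map_mul, map_pow, map_pow, map_neg, map_intCast, coef]
  have h0 : 0 ≤ (c.2.1 * (-((φ t).val : ℤ)) ^ c.2.2.1 * ((φ u).val : ℤ) ^ c.2.2.2) % 3 :=
    Int.emod_nonneg _ (by norm_num)
  have key : ((φ t).val : ZMod 3) = φ t ∧ ((φ u).val : ZMod 3) = φ u :=
    ⟨ZMod.natCast_zmod_val _, ZMod.natCast_zmod_val _⟩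
  zify
  rw [Int.toNat_of_nonneg h0]
  refine Eq.trans ?_ (ZMod.val_intCast (n := 3) _)
  push_cast
  rw [key.1, key.2]

/-- **The triple cover.** -/
theorem exists_cover :
    ∃ (Γ : Type u) (_ : Group Γ) (_ : Finite Γ) (σ : Γ →* ↥(chevG2.group F)),
      Cfsg.IsStemExtension σ ∧ Nonempty (σ.ker ≃* Multiplicative (ZMod 3)) := by
  classical
  obtain ⟨ν, hν, hadd, hν1, hcoef⟩ := exists_val hF
  have hD := packG2.comm.toGood
  let f : Fin chevG2.nroots × F → Equiv.Perm (Fin 1053) := fun p => P p.1 (ν p.2)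
  set Γ₀ := Subgroup.closure (Set.range f)
  have hcomm : ∀ g ∈ Γ₀, Commute zeta g := fun g hg => by
    induction hg using Subgroup.closure_induction with
    | mem x hx => obtain ⟨p, rfl⟩ := hx; exact P_comm _ _
    | one => exact Commute.one_right _
    | mul a b _ _ ha hb => exact ha.mul_right hb
    | inv a _ ha => exact ha.inv_right
  have hnt := nontrivK_eq
  simp only [nontrivK, Bool.and_eq_true, Nat.beq_eq, kanyUpTo_iff, Bool.not_eq_true',
    ← Bool.not_eq_true] at hnt
  obtain ⟨hz0, i₀, hi₀, hmove⟩ := hnt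
  let g7 : ↥Γ₀ := ⟨f (⟨7, by decide⟩, 1), Subgroup.subset_closure ⟨_, rfl⟩⟩
  let g11 : ↥Γ₀ := ⟨f (⟨11, by decide⟩, 1), Subgroup.subset_closure ⟨_, rfl⟩⟩
  have hbr : ((⁅g7, g11⁆ : ↥Γ₀) : Equiv.Perm (Fin 1053)) =
      wordP [(7, 1), (11, 1), (7, 2), (11, 2)] := by
    show f (⟨7, by decide⟩, 1) * f (⟨11, by decide⟩, 1) * (f (⟨7, by decide⟩, 1))⁻¹ * (f (⟨11, by decide⟩, 1))⁻¹ = _
    simp only [f, hν1, P_inv, wordP, List.map_cons, List.map_nil, List.prod_cons, List.prod_nil,
      mul_one, mul_assoc]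
    rfl
  have hzeta : ((⁅g7, g11⁆ : ↥Γ₀) : Equiv.Perm (Fin 1053)) = zeta := by
    rw [hbr, wordP_eq _ (by decide +kernel)]
    show zeta ^ ev [(7, 1), (11, 1), (7, 2), (11, 2)] 0 = zeta
    rw [hz0, pow_one]
  have hzm : zeta ∈ Γ₀ := hzeta ▸ (⁅g7, g11⁆).2
  let z : ↥Γ₀ := ⟨zeta, hzm⟩
  have hzc : Subgroup.zpowers z ≤ Subgroup.center ↥Γ₀ := by
    rw [Subgroup.zpowers_le, Subgroup.mem_center_iff]
    exact fun g => Subtype.ext (hcomm g g.2).eq.symm
  haveI : (Subgroup.zpowers z).Normal := ⟨fun n hn g => by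
    rwa [Subgroup.mem_center_iff.1 (hzc hn) g, mul_inv_cancel_right]⟩
  let q : ↥Γ₀ →* ↥Γ₀ ⧸ Subgroup.zpowers z := QuotientGroup.mk' _
  let f' : Fin chevG2.nroots × F → ↥Γ₀ := fun p => ⟨f p, Subgroup.subset_closure ⟨p, rfl⟩⟩
  have hval : ∀ g : ↥Γ₀, (g : Equiv.Perm (Fin 1053)) ∈ Subgroup.zpowers zeta → q g = 1 := by
    rintro g ⟨k, hk⟩
    exact (QuotientGroup.eq_one_iff g).2 ⟨k, Subtype.ext (by rw [SubgroupClass.coe_zpow]; exact hk)⟩
  have hrel : ∀ g ∈ chevG2.steinbergRelsAB F, FreeGroup.lift (fun p => q (f' p)) g = 1 := by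
    have hlift : ∀ g, FreeGroup.lift (fun p => q (f' p)) g = q (FreeGroup.lift f' g) := fun g =>
      DFunLike.congr_fun (FreeGroup.ext_hom (FreeGroup.lift (fun p => q (f' p)))
        (q.comp (FreeGroup.lift f')) (fun p => by simp)) g
    have hcoe : ∀ g, ((FreeGroup.lift f' g : ↥Γ₀) : Equiv.Perm (Fin 1053)) = FreeGroup.lift f g :=
      fun g => DFunLike.congr_fun (FreeGroup.ext_hom (Γ₀.subtype.comp (FreeGroup.lift f'))
        (FreeGroup.lift f) (fun p => by simp [f'])) g
    intro g hg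
    rw [hlift]
    refine hval _ ?_
    rw [hcoe]
    have hX : ∀ (r : ℕ) (hr : r < 12) (t : F),
        FreeGroup.lift f (chevG2.stX r t) = P ⟨r, hr⟩ (ν t) := fun r hr t => by
      rw [ChevalleyDatum.stX, dif_pos (show r < chevG2.nroots from hr), FreeGroup.lift_apply_of]
      rfl
    rcases hg with ⟨r, t, u, hr, rfl⟩ | ⟨r, s, t, u, hr, hs, h1, h2, rfl⟩
    · rw [map_mul, map_mul, map_inv, hX r hr, hX r hr, hX r hr, P_inv, hadd, Nat.mod_mod]
      have h := relK_all (show r < 12 from hr)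
      simp only [relK, kallUpTo_iff, Bool.and_eq_true] at h
      have := wordP_mem [(⟨r, hr⟩, ν t), (⟨r, hr⟩, ν u), (⟨r, hr⟩, 3 - (ν t + ν u) % 3)]
        (h.1 (ν t) (hν t) (ν u) (hν u))
      simpa [wordP, mul_assoc] using this
    · have hs' : s ≠ 11 - r := fun e => h2 (e.trans (packG2.dok.neg_eq hr).symm)
      have h := relK_all (show r < 12 from hr)
      simp only [relK, kallUpTo_iff, Bool.and_eq_true, Bool.or_eq_true, Nat.beq_eq] at h
      have hk := (h.2 s hs).resolve_left (fun e => e.elim h1 hs') (ν t) (hν t) (ν u) (hν u)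
      have hmem : ∀ c ∈ (chevG2.commTerms r s).reverse, c.1 < 12 := fun c hc =>
        (hD.commTerms_coef hr hs (c := c) (List.mem_reverse.1 hc)).1
      let W : List (Fin 12 × ℕ) := [(⟨s, hs⟩, 3 - ν u), (⟨r, hr⟩, 3 - ν t), (⟨s, hs⟩, ν u), (⟨r, hr⟩, ν t)] ++
        (chevG2.commTerms r s).reverse.pmap (fun c hc => (⟨c.1, hc⟩, 3 - coef c (ν t) (ν u))) hmem
      have hW := wordP_mem W (by
        refine (congrArg constK ?_).trans hk
        simp [W, relW, List.map_pmap, List.pmap_eq_map])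
      refine (congrArg (· ∈ Subgroup.zpowers zeta) ?_).mpr hW
      simp only [map_mul, map_inv, hX r hr, hX s hs, P_inv, Nat.mod_eq_of_lt (hν _), wordP, W,
        List.map_append, List.prod_append, List.map_cons, List.map_nil, List.prod_cons,
        List.prod_nil, mul_one, ← mul_assoc]
      congr 1
      rw [ChevalleyDatum.stWord, ChevalleyDatum.commWord, map_list_prod, List.prod_inv_reverse,
        List.map_pmap]
      simp only [List.map_map, ← List.map_reverse, List.pmap_eq_map_attach]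
      conv_lhs => rw [← List.attach_map_subtype_val (chevG2.commTerms r s).reverse]
      rw [List.map_map]
      refine congrArg List.prod (List.map_congr_left fun c _ => ?_)
      simp only [Function.comp_apply]
      rw [hX c.1.1 (hmem c.1 c.2), P_inv, hcoef, Nat.mod_eq_of_lt]
      exact (Int.toNat_lt' (by norm_num)).2 (Int.emod_lt_of_pos _ (by norm_num))
  let θ : chevG2.SteinbergCover F →* ↥Γ₀ ⧸ Subgroup.zpowers z := PresentedGroup.toGroup hrel
  let e := MulEquiv.ofBijective _ (scData_bijective (F := F))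
  let ψ : ↥(chevG2.group F) →* ↥Γ₀ ⧸ Subgroup.zpowers z := θ.comp e.symm.toMonoidHom
  have hψs : Function.Surjective ψ := by
    refine fun x => ?_
    suffices x ∈ θ.range by
      obtain ⟨y, hy⟩ := this
      exact ⟨e y, by simp [ψ, hy]⟩
    obtain ⟨g, rfl⟩ := QuotientGroup.mk'_surjective _ x
    obtain ⟨g, hg⟩ := g
    induction hg using Subgroup.closure_induction with
    | mem x hx =>
      obtain ⟨p, rfl⟩ := hx
      exact ⟨PresentedGroup.of p, PresentedGroup.toGroup.of hrel⟩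
    | one => exact one_mem θ.range
    | mul a b _ _ ha hb => exact mul_mem ha hb
    | inv a _ ha => exact inv_mem ha
  obtain ⟨hsimple, -⟩ := TypeG2.isSimple F (by
    obtain ⟨a, ha⟩ := Finset.exists_mem_notMem_of_card_lt_card (s := ({0, 1} : Finset F))
      (t := Finset.univ) (lt_of_le_of_lt Finset.card_le_two (by rw [Finset.card_univ, hF]; norm_num))
    simp only [Finset.mem_insert, Finset.mem_singleton, not_or] at ha
    exact ⟨a, ha.2⟩)
  have hne : q g7 ≠ 1 := by
    intro h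
    obtain ⟨k, hk⟩ := (QuotientGroup.eq_one_iff _).1 h
    have hk' : zeta ^ k = f (⟨7, by decide⟩, 1) := congrArg Subtype.val hk
    refine hmove ?_
    have hblock : ∀ (m : ℤ) (i : Fin 1053), ((zeta ^ m) i : Nat) / 3 = i / 3 := by
      intro m
      induction m with
      | zero => intro i; rfl
      | succ m ih =>
        intro i
        rw [zpow_add_one, Equiv.Perm.mul_apply, ih]
        show cyc i / 3 = i / 3
        rw [cyc_eq]; split_ifs <;> omega
      | pred m ih =>
        intro i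
        rw [zpow_sub_one, Equiv.Perm.mul_apply, ih]
        show cyc (cyc i) / 3 = i / 3
        simp only [cyc_eq]; split_ifs <;> omega
    have := hblock k ⟨3 * i₀, by omega⟩
    rw [hk'] at this
    simp only [f, hν1] at this
    show img 7 1 (3 * i₀) / 3 = i₀
    rw [show img 7 1 (3 * i₀) / 3 = 3 * i₀ / 3 from this]
    omega
  have hψi : Function.Injective ψ := by
    rw [← MonoidHom.ker_eq_bot_iff]
    refine (hsimple.eq_bot_or_eq_top_of_normal _ inferInstance).resolve_right fun h => hne ?_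
    obtain ⟨y, hy⟩ := hψs (q g7)
    rw [← hy, ← MonoidHom.mem_ker, h]
    trivial
  let σ : ↥Γ₀ →* ↥(chevG2.group F) := (MulEquiv.ofBijective ψ ⟨hψi, hψs⟩).symm.toMonoidHom.comp q
  have hker : σ.ker = Subgroup.zpowers z := by
    ext x
    exact ((MulEquiv.ofBijective ψ ⟨hψi, hψs⟩).symm.map_eq_one_iff (x := q x)).trans
      (QuotientGroup.eq_one_iff x)
  refine ⟨ULift.{u} ↥Γ₀, inferInstance, inferInstance, σ.comp MulEquiv.ulift.toMonoidHom,
    ⟨fun g => ?_, ?_, ?_⟩, ?_⟩
  · obtain ⟨x, hx⟩ := (MulEquiv.ofBijective ψ ⟨hψi, hψs⟩).symm.surjective g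
    obtain ⟨y, rfl⟩ := QuotientGroup.mk'_surjective _ x
    exact ⟨ULift.up y, hx⟩
  · intro x hx
    have hx' : x.down ∈ Subgroup.zpowers z := hker ▸ hx
    exact Subgroup.mem_center_iff.2 fun y =>
      ULift.ext _ _ (Subgroup.mem_center_iff.1 (hzc hx') y.down)
  · intro x hx
    obtain ⟨k, hk⟩ : x.down ∈ Subgroup.zpowers z := hker ▸ hx
    have : x = ⁅(ULift.up g7 : ULift.{u} ↥Γ₀), ULift.up g11⁆ ^ k := by
      refine ULift.ext _ _ ?_
      show x.down = ⁅g7, g11⁆ ^ k
      rw [show ⁅g7, g11⁆ = z from Subtype.ext hzeta]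
      exact hk.symm
    rw [this]
    exact zpow_mem (Subgroup.commutator_mem_commutator (Subgroup.mem_top _) (Subgroup.mem_top _)) k
  · have hcard : Nat.card (σ.comp MulEquiv.ulift.toMonoidHom).ker = 3 := by
      have e1 : (σ.comp MulEquiv.ulift.toMonoidHom).ker =
          (Subgroup.zpowers z).comap MulEquiv.ulift.toMonoidHom := by
        rw [← hker]; rfl
      rw [e1, Nat.card_congr (⟨fun x => ⟨x.1.down, x.2⟩, fun y => ⟨⟨y.1⟩, y.2⟩, fun _ => rfl,
        fun _ => rfl⟩ : ((Subgroup.zpowers z).comap MulEquiv.ulift.toMonoidHom : Subgroup (ULift.{u} ↥Γ₀)) ≃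
          Subgroup.zpowers z), Nat.card_zpowers]
      haveI := Fact.mk Nat.prime_three
      refine orderOf_eq_prime (Subtype.ext zeta_cube) fun h => ?_
      have h' : zeta = 1 := congrArg Subtype.val h
      have h0 := congrArg (fun g : Equiv.Perm (Fin 1053) => (g 0 : Nat)) h'
      exact absurd h0 (by decide)
    haveI := Fact.mk Nat.prime_three
    exact ⟨mulEquivOfPrimeCardEq (p := 3) hcard (by simp)⟩

end Cfsg.Agent.Mult93.G23
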