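import Cfsg.Agent.Mult93.G23.Cert0
import Cfsg.Agent.Mult93.G23.Cert1
import Cfsg.Agent.Mult93.G23.Cert2
import Cfsg.Agent.Mult93.G23.Cert3

/-!
The permutations as a group in which the relators of Steinberg are central (helper93).
-/

set_option autoImplicit false

namespace Cfsg.Agent.Mult93.G23

open Cfsg.Lie Cfsg.Agent.ChevCore
open scoped commutatorElement

theorem permK_all : ∀ {r : Nat}, r < 12 → permK r = true
  | 0, _ => permK0
  | 1, _ => permK1
  | 2, _ => permK2
  | 3, _ => permK3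
  | 4, _ => permK4
  | 5, _ => permK5
  | 6, _ => permK6
  | 7, _ => permK7
  | 8, _ => permK8
  | 9, _ => permK9
  | 10, _ => permK10
  | 11, _ => permK11
  | _ + 12, h => absurd h (by omega)

theorem relK_all : ∀ {r : Nat}, r < 12 → relK r = true
  | 0, _ => relK0
  | 1, _ => relK1
  | 2, _ => relK2
  | 3, _ => relK3
  | 4, _ => relK4
  | 5, _ => relK5
  | 6, _ => relK6
  | 7, _ => relK7
  | 8, _ => relK8
  | 9, _ => relK9
  | 10, _ => relK10
  | 11, _ => relK11
  | _ + 12, h => absurd h (by omega)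

theorem img_zero {r e : Nat} (h : e % 3 = 0) (i : Nat) : img r e i = i := by
  simp [img, h]

theorem img_mod (r e i : Nat) : img r e i = img r (e % 3) i := by
  simp [img, Nat.mod_mod]

theorem img_facts {r : Nat} (hr : r < 12) (e : Nat) {i : Nat} (hi : i < 1053) :
    img r e i < 1053 ∧ img r (3 - e % 3) (img r e i) = i ∧ img r e (cyc i) = cyc (img r e i) := by
  rw [img_mod r e i, img_mod r e (cyc i)]
  have h3 : e % 3 < 3 := Nat.mod_lt _ (by norm_num)
  generalize e % 3 = k at h3 ⊢
  interval_cases k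
  · rw [img_zero (by norm_num) i, img_zero (by norm_num) (cyc i), img_zero (by norm_num) i]
    exact ⟨hi, rfl, rfl⟩
  all_goals
    have h := permK_all hr
    simp only [permK, kallUpTo_iff, forceN_eq, Bool.and_eq_true, Nat.blt_eq, Nat.beq_eq] at h
  · have := h i hi 0 (by norm_num)
    exact ⟨this.1.1, this.1.2, this.2⟩
  · have := h i hi 1 (by norm_num)
    exact ⟨this.1.1, this.1.2, this.2⟩

theorem cyc_lt {i : Nat} (hi : i < 1053) : cyc i < 1053 := by
  rcases eq_or_ne (i % 3) 2 with h | h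
  · simp [cyc, h]; omega
  · have hb : Nat.beq (i % 3) 2 = false := by
      rw [← Bool.not_eq_true, Nat.beq_eq]; exact h
    simp only [cyc, hb, cond_false]; omega

theorem cyc_eq (i : Nat) : cyc i = if i % 3 = 2 then i - 2 else i + 1 := by
  rcases eq_or_ne (i % 3) 2 with h | h
  · simp [cyc, h]
  · have hb : Nat.beq (i % 3) 2 = false := by
      rw [← Bool.not_eq_true, Nat.beq_eq]; exact h
    simp [cyc, hb, h]

/-- The permutation of `(r, e)`. -/
noncomputable def P (r : Fin 12) (e : Nat) : Equiv.Perm (Fin 1053) where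
  toFun i := ⟨img r e i, (img_facts r.2 e i.2).1⟩
  invFun i := ⟨img r (3 - e % 3) i, (img_facts r.2 _ i.2).1⟩
  left_inv i := Fin.ext (img_facts r.2 e i.2).2.1
  right_inv i := Fin.ext (by
    show img r e (img r (3 - e % 3) i) = i
    have h3 : e % 3 < 3 := Nat.mod_lt _ (by norm_num)
    have h := (img_facts r.2 (3 - e % 3) i.2).2.1
    rw [img_mod r e]
    rw [img_mod r (3 - (3 - e % 3) % 3)] at h
    rwa [show (3 - (3 - e % 3) % 3) % 3 = e % 3 by omega] at h)

theorem P_mod (r : Fin 12) (e : Nat) : P r (e % 3) = P r e :=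
  Equiv.ext fun i => Fin.ext (img_mod r e i).symm

theorem P_inv (r : Fin 12) (e : Nat) : (P r e)⁻¹ = P r (3 - e % 3) :=
  Equiv.ext fun _ => Fin.ext rfl

/-- The central permutation. -/
def zeta : Equiv.Perm (Fin 1053) where
  toFun i := ⟨cyc i, cyc_lt i.2⟩
  invFun i := ⟨cyc (cyc i), cyc_lt (cyc_lt i.2)⟩
  left_inv i := Fin.ext (by simp only [cyc_eq]; split_ifs <;> omega)
  right_inv i := Fin.ext (by simp only [cyc_eq]; split_ifs <;> omega)

theorem zeta_cube : zeta ^ 3 = 1 :=
  Equiv.ext fun i => Fin.ext (by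
    show cyc (cyc (cyc i)) = i
    simp only [cyc_eq]; split_ifs <;> omega)

theorem P_comm (r : Fin 12) (e : Nat) : Commute zeta (P r e) :=
  Equiv.ext fun i => Fin.ext (img_facts r.2 e i.2).2.2.symm

/-- the product of a word -/
noncomputable def wordP (w : List (Fin 12 × Nat)) : Equiv.Perm (Fin 1053) :=
  (w.map fun p => P p.1 p.2).prod

theorem wordP_apply (w : List (Fin 12 × Nat)) (i : Fin 1053) :
    (wordP w i : Nat) = ev (w.map fun p => (p.1.val, p.2)) i := by
  induction w generalizing i with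
  | nil => rfl
  | cons p w ih =>
    simp only [wordP, List.map_cons, List.prod_cons, Equiv.Perm.mul_apply, ev, forceN_eq]
    rw [← ih]
    rfl

theorem commute_wordP (w : List (Fin 12 × Nat)) : Commute zeta (wordP w) :=
  Commute.list_prod_right _ _ fun x hx => by
    obtain ⟨p, -, rfl⟩ := List.mem_map.1 hx
    exact P_comm _ _

theorem wordP_eq (w : List (Fin 12 × Nat)) (h : constK (w.map fun p => (p.1.val, p.2)) = true) :
    wordP w = zeta ^ ev (w.map fun p => (p.1.val, p.2)) 0 := by
  simp only [constK, forceN_eq, Bool.and_eq_true, Nat.blt_eq, kallUpTo_iff, Nat.beq_eq] at h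
  obtain ⟨hk, hall⟩ := h
  set k := ev (w.map fun p => (p.1.val, p.2)) 0
  have hz : ∀ (m : Nat) (i : Fin 1053), m < 3 → i.val % 3 = 0 → ((zeta ^ m) i : Nat) = i + m := by
    intro m i hm hi
    interval_cases m
    · rfl
    · show cyc i = i + 1
      rw [cyc_eq, if_neg (by omega)]
    · show cyc (cyc i) = i + 2
      rw [cyc_eq i, if_neg (by omega), cyc_eq, if_neg (by omega)]
  refine Equiv.ext fun i => ?_
  obtain ⟨b, m, hm, hb, rfl⟩ : ∃ (b : Fin 1053) (m : Nat), m < 3 ∧ b.val % 3 = 0 ∧ i = (zeta ^ m) b :=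
    ⟨⟨3 * (i.val / 3), by omega⟩, i.val % 3, Nat.mod_lt _ (by norm_num), by simp, Fin.ext (by
      rw [hz _ _ (Nat.mod_lt _ (by norm_num)) (by simp)]
      show i.val = 3 * (i.val / 3) + i.val % 3
      omega)⟩
  rw [← Equiv.Perm.mul_apply, ((commute_wordP w).pow_left m).eq.symm, Equiv.Perm.mul_apply,
    ← Equiv.Perm.mul_apply (zeta ^ k), ← pow_add, add_comm, pow_add, Equiv.Perm.mul_apply]
  refine congrArg _ (Fin.ext ?_)
  rw [wordP_apply, hz k b hk hb]
  have := hall (b.val / 3) (by omega)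
  rwa [show 3 * (b.val / 3) = b.val by omega] at this

theorem wordP_mem (w : List (Fin 12 × Nat)) (h : constK (w.map fun p => (p.1.val, p.2)) = true) :
    wordP w ∈ Subgroup.zpowers zeta :=
  wordP_eq w h ▸ Subgroup.npow_mem_zpowers _ _

end Cfsg.Agent.Mult93.G23
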